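import Groth.Agent.Lib.Helper71.BLGlue

/-!
Flat base change for degree-one Čech cocycles modulo coboundaries (finite level), in the
formal glueing situation `R → S` flat, `R/I ≅ S/IS`.
-/

set_option autoImplicit false

open TensorProduct

namespace Groth.Agent.Lib.Helper39.FormalGlue

universe u

section Proj

variable {R S : Type u} [CommRing R] [CommRing S] [Algebra R S]
  {ι : Type} [Fintype ι] [DecidableEq ι] (N : Type u) [AddCommGroup N] [Module R N]

/-- joint injectivity of the projections on `S ⊗ (ι → N)` -/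
theorem eq_of_proj_eq (w w' : S ⊗[R] (ι → N))
    (h : ∀ i, (LinearMap.proj i : (ι → N) →ₗ[R] N).lTensor S w =
      (LinearMap.proj i : (ι → N) →ₗ[R] N).lTensor S w') : w = w' := by
  have key : ∀ (z : S ⊗[R] (ι → N)) (i : ι),
      TensorProduct.piRight R S S (fun _ : ι => N) z i =
        (LinearMap.proj i : (ι → N) →ₗ[R] N).lTensor S z := by
    intro z i
    induction z using TensorProduct.induction_on with
    | zero => simp
    | tmul s v => simp
    | add a b ha hb => rw [map_add, map_add, Pi.add_apply, ha, hb]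
  apply (TensorProduct.piRight R S S (fun _ : ι => N)).injective
  funext i
  rw [key, key, h i]

/-- every family in `S ⊗ N` comes from an element of `S ⊗ (ι → N)` -/
theorem exists_proj_eq (y : ι → S ⊗[R] N) :
    ∃ w : S ⊗[R] (ι → N), ∀ i, (LinearMap.proj i : (ι → N) →ₗ[R] N).lTensor S w = y i := by
  have key : ∀ (z : S ⊗[R] (ι → N)) (i : ι),
      TensorProduct.piRight R S S (fun _ : ι => N) z i =
        (LinearMap.proj i : (ι → N) →ₗ[R] N).lTensor S z := by
    intro z i
    induction z using TensorProduct.induction_on with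
    | zero => simp
    | tmul s v => simp
    | add a b ha hb => rw [map_add, map_add, Pi.add_apply, ha, hb]
  refine ⟨(TensorProduct.piRight R S S (fun _ : ι => N)).symm y, fun i => ?_⟩
  rw [← key, LinearEquiv.apply_symm_apply]

end Proj

section Main

variable {R S : Type u} [CommRing R] [CommRing S] [Algebra R S] [Module.Flat R S] {t : ℕ}
  (I : Ideal R)
  (hq : Function.Bijective
      (Ideal.quotientMap (Ideal.map (algebraMap R S) I) (algebraMap R S) Ideal.le_comap_map))
  (N : Type u) [AddCommGroup N] [Module R N]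

/-- the degree-one Čech differential with multipliers `g i` -/
def d1 (g : Fin t → R) : (Fin t → N) →ₗ[R] (Fin t × Fin t → N) :=
  LinearMap.pi (fun p => g p.2 • LinearMap.proj p.1 - g p.1 • LinearMap.proj p.2)

omit [Module.Flat R S] in
theorem d1_apply (g : Fin t → R) (a : Fin t → N) (p : Fin t × Fin t) :
    d1 N g a p = g p.2 • a p.1 - g p.1 • a p.2 := rfl

omit [Module.Flat R S] in
theorem mem_ker_d1 (g : Fin t → R) (a : Fin t → N) :
    a ∈ LinearMap.ker (d1 N g) ↔ ∀ i j, g j • a i = g i • a j := by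
  rw [LinearMap.mem_ker]
  constructor
  · intro h i j
    have := congrFun h (i, j)
    rw [d1_apply] at this
    exact sub_eq_zero.1 this
  · intro h
    funext p
    rw [d1_apply, h p.1 p.2, sub_self]
    rfl

include hq in
/-- cocycles with values in `S ⊗ N` are, modulo coboundaries, cocycles with values in `N`. -/
theorem exists_cocycle_decomp (g : Fin t → R) (n : ℕ) (hn : I ^ n ≤ Ideal.span (Set.range g))
    (y : Fin t → S ⊗[R] N) (hy : ∀ i j, g j • y i = g i • y j) :
    ∃ (a : Fin t → N) (y' : S ⊗[R] N), (∀ i j, g j • a i = g i • a j) ∧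
      ∀ i, y i = (1 : S) ⊗ₜ[R] a i + g i • y' := by
  classical
  obtain ⟨w₀, hw₀⟩ := exists_proj_eq (R := R) (S := S) N y
  -- `w₀` is a cocycle
  have hcoc : (d1 N g).lTensor S w₀ = 0 := by
    apply eq_of_proj_eq (R := R) (S := S) N
    intro p
    rw [← LinearMap.comp_apply, ← LinearMap.lTensor_comp, map_zero]
    have hcomp : (LinearMap.proj p : (Fin t × Fin t → N) →ₗ[R] N) ∘ₗ d1 N g =
        g p.2 • LinearMap.proj p.1 - g p.1 • LinearMap.proj p.2 := by
      ext a
      rfl
    rw [hcomp, LinearMap.lTensor_sub, LinearMap.lTensor_smul, LinearMap.lTensor_smul,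
      LinearMap.sub_apply, LinearMap.smul_apply, LinearMap.smul_apply, hw₀, hw₀, hy p.1 p.2,
      sub_self]
  have hex := Module.Flat.lTensor_exact S (LinearMap.exact_subtype_ker_map (d1 N g))
  obtain ⟨w, hw⟩ := (hex w₀).1 hcoc
  -- coboundaries
  have hd0Z : ∀ μ : N, Helper71.BL.d0 N g μ ∈ LinearMap.ker (d1 N g) := by
    intro μ
    rw [mem_ker_d1]
    intro i j
    change g j • (g i • μ) = g i • (g j • μ)
    rw [smul_smul, smul_smul, mul_comm]
  let d0Z : N →ₗ[R] LinearMap.ker (d1 N g) :=
    (Helper71.BL.d0 N g).codRestrict (LinearMap.ker (d1 N g)) hd0Z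
  have hH : ∀ r ∈ I ^ n, ∀ h : (LinearMap.ker (d1 N g) ⧸ LinearMap.range d0Z), r • h = 0 := by
    intro r hr h
    obtain ⟨z, rfl⟩ := Submodule.mkQ_surjective _ h
    apply Helper71.BL.smul_eq_zero_of_mem_span g _ ?_ (hn hr)
    intro j
    rw [← map_smul, Submodule.mkQ_apply, Submodule.Quotient.mk_eq_zero]
    refine ⟨(z : Fin t → N) j, ?_⟩
    apply Subtype.ext
    funext i
    change g i • (z : Fin t → N) j = g j • (z : Fin t → N) i
    exact (((mem_ker_d1 N g _).1 z.2) i j).symm
  have hbij := Helper71.BL.mk_bijective_of_killed_pow I hq n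
    (LinearMap.ker (d1 N g) ⧸ LinearMap.range d0Z) hH
  obtain ⟨h, hh⟩ := hbij.2 ((LinearMap.range d0Z).mkQ.lTensor S w)
  obtain ⟨a, rfl⟩ := Submodule.mkQ_surjective _ h
  have hexq : Function.Exact d0Z (LinearMap.range d0Z).mkQ := by
    intro z
    rw [Submodule.mkQ_apply, Submodule.Quotient.mk_eq_zero]
    rfl
  have hex2 := lTensor_exact S hexq (Submodule.mkQ_surjective _)
  have h0 : (LinearMap.range d0Z).mkQ.lTensor S (w - (1 : S) ⊗ₜ[R] a) = 0 := by
    rw [map_sub, LinearMap.lTensor_tmul, ← hh]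
    exact sub_self _
  obtain ⟨y', hy'⟩ := (hex2 _).1 h0
  refine ⟨(a : Fin t → N), y', (mem_ker_d1 N g _).1 a.2, fun i => ?_⟩
  have hw' : w = (1 : S) ⊗ₜ[R] a + d0Z.lTensor S y' := by
    rw [hy']
    abel
  rw [← hw₀ i, ← hw, hw', map_add, map_add, LinearMap.lTensor_tmul, LinearMap.lTensor_tmul]
  congr 1
  rw [← LinearMap.comp_apply, ← LinearMap.lTensor_comp, ← LinearMap.comp_apply,
    ← LinearMap.lTensor_comp]
  have hcomp : ((LinearMap.proj i : (Fin t → N) →ₗ[R] N) ∘ₗ
      (LinearMap.ker (d1 N g)).subtype) ∘ₗ d0Z = g i • LinearMap.id := by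
    ext μ
    rfl
  rw [hcomp, LinearMap.lTensor_smul, LinearMap.lTensor_id, LinearMap.smul_apply,
    LinearMap.id_apply]

end Main

end Groth.Agent.Lib.Helper39.FormalGlue
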