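import Groth.Agent.Lib.Helper39.FormalGlue.CocycleBC
import Groth.Agent.Lib.Helper28.FG
import Groth.Agent.S7090

/-!
Lifting extensions of `I`-power torsion modules along a formal glueing pair `R → S`.
-/

set_option autoImplicit false

open TensorProduct

namespace Groth.Agent.Lib.Helper39.FormalGlue

universe u

section Loc

variable {R : Type u} [CommRing R] (b : R)

/-- the element `b ^ k` of the submonoid of powers of `b` -/
def pw (k : ℕ) : Submonoid.powers b := ⟨b ^ k, k, rfl⟩

theorem exists_mk_pw {X : Type u} [AddCommGroup X] [Module R X]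
    (z : LocalizedModule (Submonoid.powers b) X) :
    ∃ (m : X) (k : ℕ), z = LocalizedModule.mk m (pw b k) := by
  induction z using LocalizedModule.induction_on with
  | h m s =>
    obtain ⟨_, k, rfl⟩ := s
    exact ⟨m, k, rfl⟩

theorem mk_pw_eq {X : Type u} [AddCommGroup X] [Module R X] (m : X) (k K : ℕ) (h : k ≤ K) :
    LocalizedModule.mk m (pw b k) = LocalizedModule.mk (b ^ (K - k) • m) (pw b K) := by
  rw [LocalizedModule.mk_eq]
  refine ⟨1, ?_⟩
  rw [one_smul, one_smul]
  change b ^ K • m = b ^ k • b ^ (K - k) • m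
  rw [smul_smul, ← pow_add, Nat.add_sub_cancel' h]

theorem smul_mk_pw {X : Type u} [AddCommGroup X] [Module R X] (r : R) (m : X) (k : ℕ) :
    r • (LocalizedModule.mk m (pw b k) : LocalizedModule (Submonoid.powers b) X) =
      LocalizedModule.mk (r • m) (pw b k) :=
  LocalizedModule.smul'_mk r m (pw b k)

theorem mk_pw_eq_mk_one_iff {X : Type u} [AddCommGroup X] [Module R X] (m n : X) (k : ℕ) :
    (LocalizedModule.mk m (pw b k) : LocalizedModule (Submonoid.powers b) X) =
      LocalizedModule.mk n 1 ↔ ∃ a : ℕ, b ^ a • m = b ^ a • b ^ k • n := by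
  rw [LocalizedModule.mk_eq]
  constructor
  · rintro ⟨⟨_, a, rfl⟩, ha⟩
    refine ⟨a, ?_⟩
    have h1 : b ^ a • (1 : Submonoid.powers b) • m = b ^ a • (pw b k) • n := ha
    rw [one_smul] at h1
    exact h1
  · rintro ⟨a, ha⟩
    refine ⟨pw b a, ?_⟩
    change b ^ a • (1 : Submonoid.powers b) • m = b ^ a • (pw b k) • n
    rw [one_smul]
    exact ha

theorem mk_self_pw {X : Type u} [AddCommGroup X] [Module R X] (m : X) (k : ℕ) :
    (LocalizedModule.mk (b ^ k • m) (pw b k) : LocalizedModule (Submonoid.powers b) X) =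
      LocalizedModule.mk m 1 := by
  rw [mk_pw_eq_mk_one_iff]
  exact ⟨0, rfl⟩

end Loc

section Main

variable {R S : Type u} [CommRing R] [CommRing S] [Algebra R S] [Module.Flat R S] {t : ℕ}
  (f : Fin t → R) (I : Ideal R) (hI : Ideal.span (Set.range f) = I)
  (hq : Function.Bijective
      (Ideal.quotientMap (Ideal.map (algebraMap R S) I) (algebraMap R S) Ideal.le_comap_map))
  (N M : Type u) [AddCommGroup N] [Module R N] [AddCommGroup M] [Module R M]
  (hM : ∀ m : M, ∃ n : ℕ, ∀ a ∈ I ^ n, a • m = 0)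
  (E' : Type u) [AddCommGroup E'] [Module S E'] [Module R E'] [IsScalarTower R S E']
  (i' : S ⊗[R] N →ₗ[S] E') (p' : E' →ₗ[S] S ⊗[R] M)
  (hi' : Function.Injective i') (hp' : Function.Surjective p')
  (hex' : LinearMap.range i' = LinearMap.ker p')

/-- `N → E'`, `n ↦ i'(1 ⊗ n)` -/
noncomputable def uMap : N →ₗ[R] E' := (i'.restrictScalars R) ∘ₗ (TensorProduct.mk R S N 1)

omit [Module.Flat R S] in
theorem uMap_apply (n : N) : uMap N E' i' n = i' ((1 : S) ⊗ₜ[R] n) := rfl

/-- the localization of `uMap` at the powers of `f i` -/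
noncomputable def kap (i : Fin t) : LocalizedModule (Submonoid.powers (f i)) N →ₗ[R]
    LocalizedModule (Submonoid.powers (f i)) E' :=
  IsLocalizedModule.map (Submonoid.powers (f i))
    (LocalizedModule.mkLinearMap (Submonoid.powers (f i)) N)
    (LocalizedModule.mkLinearMap (Submonoid.powers (f i)) E') (uMap N E' i')

omit [Module.Flat R S] in
theorem kap_mk (i : Fin t) (m : N) (s : Submonoid.powers (f i)) :
    kap f N E' i' i (LocalizedModule.mk m s) = LocalizedModule.mk (uMap N E' i' m) s :=
  IsLocalizedModule.map_LocalizedModules (Submonoid.powers (f i)) (uMap N E' i') m s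

/-- the diagonal map `N → ∏ N_{f_i}` -/
noncomputable def can : N →ₗ[R] (∀ i : Fin t, LocalizedModule (Submonoid.powers (f i)) N) :=
  LinearMap.pi (fun i => LocalizedModule.mkLinearMap (Submonoid.powers (f i)) N)

omit [Module.Flat R S] in
theorem can_apply (n : N) (i : Fin t) : can f N n i = LocalizedModule.mk n 1 := rfl

/-- the torsion closure of `N` in `∏ N_{f_i}` -/
noncomputable def TC : Submodule R (∀ i : Fin t, LocalizedModule (Submonoid.powers (f i)) N) where
  carrier := {x | ∀ j : Fin t, ∃ (k : ℕ) (n : N), f j ^ k • x = can f N n}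
  add_mem' := by
    intro x x' hx hx' j
    obtain ⟨k, n, h⟩ := hx j
    obtain ⟨k', n', h'⟩ := hx' j
    refine ⟨k + k', f j ^ k' • n + f j ^ k • n', ?_⟩
    rw [smul_add, map_add, map_smul, map_smul, ← h, ← h', smul_smul, smul_smul, ← pow_add,
      ← pow_add, add_comm k' k]
  zero_mem' := by
    intro j
    exact ⟨0, 0, by rw [smul_zero, map_zero]⟩
  smul_mem' := by
    intro r x hx j
    obtain ⟨k, n, h⟩ := hx j
    refine ⟨k, r • n, ?_⟩
    rw [smul_comm, h, map_smul]

/-- the glued extension, as a submodule of `E' × ∏ N_{f_i}` -/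
noncomputable def Econd : Submodule R
    (E' × (∀ i : Fin t, LocalizedModule (Submonoid.powers (f i)) N)) where
  carrier := {q | (∀ i : Fin t, LocalizedModule.mkLinearMap (Submonoid.powers (f i)) E' q.1 =
      kap f N E' i' i (q.2 i)) ∧ q.2 ∈ TC f N}
  add_mem' := by
    rintro q q' ⟨h1, h2⟩ ⟨h1', h2'⟩
    refine ⟨fun i => ?_, (TC f N).add_mem h2 h2'⟩
    rw [Prod.fst_add, map_add, h1 i, h1' i, Prod.snd_add, Pi.add_apply, map_add]
  zero_mem' := by
    refine ⟨fun i => ?_, (TC f N).zero_mem⟩
    rw [Prod.fst_zero, map_zero, Prod.snd_zero, Pi.zero_apply, map_zero]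
  smul_mem' := by
    rintro r q ⟨h1, h2⟩
    refine ⟨fun i => ?_, (TC f N).smul_mem r h2⟩
    rw [Prod.smul_fst, map_smul, h1 i, Prod.smul_snd, Pi.smul_apply, map_smul]

/-- `N → E` -/
noncomputable def iMap : N →ₗ[R] Econd f N E' i' :=
  ((uMap N E' i').prod (can f N)).codRestrict (Econd f N E' i') (by
    intro n
    refine ⟨fun i => ?_, fun j => ⟨0, n, by rw [pow_zero, one_smul]; rfl⟩⟩
    change LocalizedModule.mkLinearMap (Submonoid.powers (f i)) E' (uMap N E' i' n) =
      kap f N E' i' i (LocalizedModule.mkLinearMap (Submonoid.powers (f i)) N n)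
    unfold kap
    rw [IsLocalizedModule.map_apply])

/-- `E → E'` -/
noncomputable def gMap : Econd f N E' i' →ₗ[R] E' :=
  (LinearMap.fst R E' _) ∘ₗ (Econd f N E' i').subtype

omit [Module.Flat R S] in
theorem gMap_iMap (n : N) : gMap f N E' i' (iMap f N E' i' n) = i' ((1 : S) ⊗ₜ[R] n) := rfl

include hI hq hi' in
theorem iMap_injective : Function.Injective (iMap f N E' i') := by
  rw [injective_iff_map_eq_zero]
  intro n hn
  have h1 : uMap N E' i' n = 0 := congrArg (fun q => q.1.1) hn
  have h2 : can f N n = 0 := congrArg (fun q => q.1.2) hn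
  rw [uMap_apply] at h1
  have h3 : (1 : S) ⊗ₜ[R] n = 0 := hi' (h1.trans (map_zero i').symm)
  exact (Groth.Agent.S7090.result f I hI hq N).1 n h3 (fun i => congrFun h2 i)


/-- `M ≃ S ⊗ M` for `I`-power torsion `M` -/
noncomputable def eM : M ≃ₗ[R] S ⊗[R] M :=
  LinearEquiv.ofBijective (TensorProduct.mk R S M 1)
    (Groth.Agent.Lib.Helper28.FG.bijective_of_torsion hq M hM)

theorem eM_apply (m : M) : eM I hq M hM m = (1 : S) ⊗ₜ[R] m := rfl

/-- `E → M` -/
noncomputable def pMap : Econd f N E' i' →ₗ[R] M :=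
  (eM I hq M hM).symm.toLinearMap ∘ₗ (p'.restrictScalars R) ∘ₗ gMap f N E' i'

theorem pMap_apply (e : Econd f N E' i') :
    pMap f I hq N M hM E' i' p' e = (eM I hq M hM).symm (p' (gMap f N E' i' e)) := rfl

theorem p'_gMap (e : Econd f N E' i') :
    p' (gMap f N E' i' e) = (1 : S) ⊗ₜ[R] (pMap f I hq N M hM E' i' p' e) := by
  rw [← eM_apply I hq M hM, pMap_apply, LinearEquiv.apply_symm_apply]

include hex' in
omit [Module.Flat R S] in
theorem p'_i' (y : S ⊗[R] N) : p' (i' y) = 0 := by
  have : i' y ∈ LinearMap.ker p' := hex' ▸ LinearMap.mem_range_self i' y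
  exact this

include hex' in
theorem pMap_iMap (n : N) : pMap f I hq N M hM E' i' p' (iMap f N E' i' n) = 0 := by
  rw [pMap_apply, gMap_iMap, p'_i' N M E' i' p' hex', map_zero]

include hI hi' hex' in
theorem range_iMap : LinearMap.range (iMap f N E' i') =
    LinearMap.ker (pMap f I hq N M hM E' i' p') := by
  classical
  apply le_antisymm
  · rintro _ ⟨n, rfl⟩
    exact pMap_iMap f I hq N M hM E' i' p' hex' n
  · rintro ⟨⟨e', x⟩, ⟨h1, h2⟩⟩ hq0
    rw [LinearMap.mem_ker, pMap_apply] at hq0
    have hp0 : p' e' = 0 := by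
      have := (eM I hq M hM).symm.injective (hq0.trans (map_zero _).symm)
      exact this
    have hmem : e' ∈ LinearMap.range i' := by
      rw [hex']
      exact hp0
    obtain ⟨y, rfl⟩ := hmem
    -- common exponent
    choose m₀ k hk using fun i => exists_mk_pw (f i) (x i)
    set N₀ := Finset.univ.sup k with hN₀
    have hkle : ∀ i, k i ≤ N₀ := fun i => Finset.le_sup (Finset.mem_univ i)
    obtain ⟨m, hm⟩ : ∃ m : Fin t → N, ∀ i, m i = f i ^ (N₀ - k i) • m₀ i := ⟨_, fun i => rfl⟩
    have hx : ∀ i, x i = LocalizedModule.mk (m i) (pw (f i) N₀) := by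
      intro i
      rw [hk i, mk_pw_eq (f i) (m₀ i) (k i) N₀ (hkle i), hm i]
    -- first hypothesis
    have hyp1 : ∀ i : Fin t, EtGlue.locOfTensor R S (f i) N y =
        EtGlue.tensorOfLoc R S (f i) N (LocalizedModule.mk (m i)
          ⟨f i ^ N₀, Submonoid.pow_mem _ (Submonoid.mem_powers (f i)) N₀⟩) := by
      intro i
      have hinj := IsLocalizedModule.map_injective (Submonoid.powers (f i))
        (LocalizedModule.mkLinearMap (Submonoid.powers (f i)) (S ⊗[R] N))
        (LocalizedModule.mkLinearMap (Submonoid.powers (f i)) E') (i'.restrictScalars R) hi'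
      apply hinj
      have e1 : (IsLocalizedModule.map (Submonoid.powers (f i))
          (LocalizedModule.mkLinearMap (Submonoid.powers (f i)) (S ⊗[R] N))
          (LocalizedModule.mkLinearMap (Submonoid.powers (f i)) E') (i'.restrictScalars R))
          (EtGlue.locOfTensor R S (f i) N y) =
          LocalizedModule.mkLinearMap (Submonoid.powers (f i)) E' (i' y) := by
        rw [IsLocalizedModule.map_apply]
        rfl
      have e2 : (IsLocalizedModule.map (Submonoid.powers (f i))
          (LocalizedModule.mkLinearMap (Submonoid.powers (f i)) (S ⊗[R] N))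
          (LocalizedModule.mkLinearMap (Submonoid.powers (f i)) E') (i'.restrictScalars R))
          (EtGlue.tensorOfLoc R S (f i) N (LocalizedModule.mk (m i)
          ⟨f i ^ N₀, Submonoid.pow_mem _ (Submonoid.mem_powers (f i)) N₀⟩)) =
          LocalizedModule.mk (uMap N E' i' (m i)) (pw (f i) N₀) := by
        rw [IsLocalizedModule.map_LocalizedModules, IsLocalizedModule.map_LocalizedModules]
        rfl
      rw [e1, e2, ← kap_mk, ← hx i]
      exact h1 i
    -- second hypothesis
    have hyp2 : ∀ i j : Fin t, ∃ e : ℕ,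
        (f i * f j) ^ e • (f j ^ N₀ • m i - f i ^ N₀ • m j) = 0 := by
      intro i j
      obtain ⟨k₁, n, hn⟩ := h2 i
      have hj : f i ^ k₁ • x j = LocalizedModule.mk n 1 := congrFun hn j
      have hi : f i ^ k₁ • x i = LocalizedModule.mk n 1 := congrFun hn i
      rw [hx, smul_mk_pw, mk_pw_eq_mk_one_iff] at hj hi
      obtain ⟨a, hA⟩ := hj
      obtain ⟨b, hB⟩ := hi
      refine ⟨a + b + k₁, ?_⟩
      have hB' : f i ^ (b + k₁) • m i = f i ^ (b + N₀) • n := by
        rw [pow_add, pow_add, mul_smul, mul_smul]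
        exact hB
      have hA' : (f j ^ a * f i ^ k₁) • m j = f j ^ (a + N₀) • n := by
        rw [pow_add, mul_smul, mul_smul]
        exact hA
      rw [smul_sub, sub_eq_zero]
      calc (f i * f j) ^ (a + b + k₁) • f j ^ N₀ • m i
          = (f i ^ a * f j ^ (a + b + k₁) * f j ^ N₀) • f i ^ (b + k₁) • m i := by
            rw [smul_smul, smul_smul]
            congr 1
            ring
        _ = (f i ^ a * f j ^ (a + b + k₁) * f j ^ N₀) • f i ^ (b + N₀) • n := by rw [hB']
        _ = (f i ^ (a + b) * f j ^ (b + k₁) * f i ^ N₀) • f j ^ (a + N₀) • n := by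
            rw [smul_smul, smul_smul]
            congr 1
            ring
        _ = (f i ^ (a + b) * f j ^ (b + k₁) * f i ^ N₀) • (f j ^ a * f i ^ k₁) • m j := by
            rw [hA']
        _ = (f i * f j) ^ (a + b + k₁) • f i ^ N₀ • m j := by
            rw [smul_smul, smul_smul]
            congr 1
            ring
    obtain ⟨μ, hμ1, hμ2⟩ := (Groth.Agent.S7090.result f I hI hq N).2 y N₀ m hyp1 hyp2
    refine ⟨μ, ?_⟩
    apply Subtype.ext
    apply Prod.ext
    · change uMap N E' i' μ = i' y
      rw [uMap_apply, hμ1]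
    · funext i
      change LocalizedModule.mkLinearMap (Submonoid.powers (f i)) N μ = x i
      rw [hμ2 i, hx i]
      rfl

include hI hM hp' hi' hex' in
theorem pMap_surjective : Function.Surjective (pMap f I hq N M hM E' i' p') := by
  intro m
  obtain ⟨e', he'⟩ := hp' ((1 : S) ⊗ₜ[R] m)
  obtain ⟨k, hk⟩ := hM m
  have hfI : ∀ i, f i ^ k ∈ I ^ k := by
    intro i
    apply Ideal.pow_mem_pow
    rw [← hI]
    exact Ideal.subset_span (Set.mem_range_self i)
  have hker : ∀ i, f i ^ k • e' ∈ LinearMap.range i' := by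
    intro i
    rw [hex', LinearMap.mem_ker, LinearMap.map_smul_of_tower, he', TensorProduct.smul_tmul',
      TensorProduct.smul_tmul, hk _ (hfI i), TensorProduct.tmul_zero]
  choose y hy using hker
  set g : Fin t → R := fun i => f i ^ k with hg
  have hcoc : ∀ i j, g j • y i = g i • y j := by
    intro i j
    apply hi'
    rw [LinearMap.map_smul_of_tower, LinearMap.map_smul_of_tower, hy, hy, smul_smul, smul_smul,
      mul_comm]
  obtain ⟨n, hn⟩ := Helper71.BL.exists_pow_le f k
  rw [hI] at hn
  obtain ⟨a, y', ha, hdec⟩ := exists_cocycle_decomp I hq N g n hn y hcoc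
  -- the element
  have hkey : ∀ i, f i ^ k • (e' - i' y') = i' ((1 : S) ⊗ₜ[R] a i) := by
    intro i
    rw [smul_sub, ← hy i, ← LinearMap.map_smul_of_tower, ← map_sub, hdec i]
    congr 1
    abel
  have hmemE : ((e' - i' y', fun i => LocalizedModule.mk (a i) (pw (f i) k)) :
      E' × (∀ i : Fin t, LocalizedModule (Submonoid.powers (f i)) N)) ∈ Econd f N E' i' := by
    refine ⟨fun i => ?_, fun j => ⟨k, a j, ?_⟩⟩
    · change LocalizedModule.mk (e' - i' y') 1 =
        kap f N E' i' i (LocalizedModule.mk (a i) (pw (f i) k))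
      rw [kap_mk, uMap_apply, ← hkey i, mk_self_pw]
    · funext i
      rw [Pi.smul_apply, can_apply, smul_mk_pw]
      change LocalizedModule.mk (g j • a i) (pw (f i) k) = _
      rw [ha i j]
      exact mk_self_pw (f i) (a j) k
  refine ⟨⟨_, hmemE⟩, ?_⟩
  rw [pMap_apply]
  change (eM I hq M hM).symm (p' (e' - i' y')) = m
  rw [map_sub, p'_i' N M E' i' p' hex', sub_zero, he', ← eM_apply I hq M hM,
    LinearEquiv.symm_apply_apply]

end Main

end Groth.Agent.Lib.Helper39.FormalGlue
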